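import Mathlib

/-!
# Reductions of saturated spaces of pencils over a DVR in characteristic `p`
-/

set_option autoImplicit false

universe u

namespace Groth.Agent.PencilLim

open Polynomial

section general
variable {R : Type*} [CommRing R] {S : Type*} [CommRing S]

theorem map_wronskian (f : R →+* S) (a b : R[X]) :
    (wronskian a b).map f = wronskian (a.map f) (b.map f) := by
  simp [wronskian, derivative_map]

theorem coeff_mul_derivative_top {a b : R[X]} {m n : ℕ} (ha : a.natDegree ≤ m) (hb : b.natDegree ≤ n) :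
    (a * derivative b).coeff (m + n - 1) = a.coeff m * (n * b.coeff n) := by
  rcases n with _ | n
  · rw [eq_C_of_natDegree_le_zero hb]
    simp
  · have hd : (derivative b).natDegree ≤ n := (natDegree_derivative_le b).trans (by omega)
    rw [show m + (n + 1) - 1 = m + n by omega, coeff_mul_add_eq_of_natDegree_le ha hd, coeff_derivative]
    push_cast
    ring

theorem natDegree_mul_derivative_le {a b : R[X]} {m n : ℕ} (ha : a.natDegree ≤ m) (hb : b.natDegree ≤ n) :
    (a * derivative b).natDegree ≤ m + n - 1 := by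
  rcases n with _ | n
  · rw [eq_C_of_natDegree_le_zero hb]
    simp
  · exact natDegree_mul_le.trans (by have := natDegree_derivative_le b; omega)

theorem natDegree_wronskian_le {a b : R[X]} {m n : ℕ} (ha : a.natDegree ≤ m) (hb : b.natDegree ≤ n) :
    (wronskian a b).natDegree ≤ m + n - 1 := by
  refine (natDegree_sub_le _ _).trans (max_le (natDegree_mul_derivative_le ha hb) ?_)
  rw [mul_comm, add_comm m n]
  exact natDegree_mul_derivative_le hb ha

theorem coeff_wronskian_top {a b : R[X]} {m n : ℕ} (ha : a.natDegree ≤ m) (hb : b.natDegree ≤ n) :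
    (wronskian a b).coeff (m + n - 1) = ((n : R) - m) * (a.coeff m * b.coeff n) := by
  rw [wronskian, coeff_sub, coeff_mul_derivative_top ha hb, mul_comm (derivative a) b, add_comm m n,
    coeff_mul_derivative_top hb ha]
  ring

theorem natDegree_wronskian_le_of_le {a b : R[X]} {d : ℕ} (ha : a.natDegree ≤ d) (hb : b.natDegree ≤ d) :
    (wronskian a b).natDegree ≤ 2 * d - 2 := by
  have h1 := natDegree_wronskian_le ha hb
  have h2 := coeff_wronskian_top ha hb
  rw [sub_self, zero_mul] at h2
  by_cases hW : wronskian a b = 0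
  · simp [hW]
  rcases h1.lt_or_eq with h | h
  · omega
  · exact absurd (by rw [leadingCoeff, h]; exact h2) (leadingCoeff_ne_zero.mpr hW)

theorem pow_dvd_wronskian_pred {x a : R[X]} {n : ℕ} (h : x ^ n ∣ a) (b : R[X]) :
    x ^ (n - 1) ∣ wronskian a b := by
  refine dvd_sub (dvd_mul_of_dvd_left ((pow_dvd_pow x (n.sub_le 1)).trans h) _) (dvd_mul_of_dvd_left ?_ _)
  obtain ⟨q, rfl⟩ := h
  rw [derivative_mul, derivative_pow]
  exact dvd_add (dvd_mul_of_dvd_left (dvd_mul_of_dvd_left (dvd_mul_left _ _) _) _)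
    (dvd_mul_of_dvd_left (pow_dvd_pow x (n.sub_le 1)) _)

theorem pow_dvd_wronskian {x a b : R[X]} {n : ℕ} (h : x ^ (n + 1) ∣ a) (hb : x ∣ b) :
    x ^ (n + 1) ∣ wronskian a b := by
  refine dvd_sub (dvd_mul_of_dvd_left h _) ?_
  obtain ⟨q, rfl⟩ := h
  rw [derivative_mul, derivative_pow, Nat.add_sub_cancel, add_mul, pow_succ x n]
  refine dvd_add ?_ (dvd_mul_of_dvd_left (Dvd.intro _ rfl) _)
  obtain ⟨r, rfl⟩ := hb
  exact ⟨C ((n + 1 : ℕ) : R) * derivative x * q * r, by ring⟩

theorem wronskian_comb (s t : R[X]) (a b a' b' : R[X]) (ha : derivative a = 0) (hb : derivative b = 0)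
    (ha' : derivative a' = 0) (hb' : derivative b' = 0) :
    wronskian (a * s + b * t) (a' * s + b' * t) = (a * b' - b * a') * wronskian s t := by
  simp only [wronskian, derivative_add, derivative_mul, ha, hb, ha', hb', zero_mul, zero_add]
  ring

theorem derivative_expand_eq_zero (p : ℕ) [CharP R p] (f : R[X]) : derivative (expand R p f) = 0 := by
  rw [derivative_expand, CharP.cast_eq_zero, zero_mul, mul_zero]

end general

section field
variable {K : Type*} [Field K]

theorem pow_dvd_of_eval_eq_zero (p : ℕ) [Fact p.Prime] [CharP K p] {e : ℕ} (he : e ≤ p) {a b Φ Ψ : K[X]} {P : K}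
    (hΦ : (X - C P) ^ e ∣ Φ) (he0 : 0 < e) (hΨ : Ψ.eval P ≠ 0)
    (h : (expand K p a * Φ + expand K p b * Ψ).eval P = 0) :
    (X - C P) ^ e ∣ expand K p a * Φ + expand K p b * Ψ := by
  have hΦ0 : Φ.eval P = 0 := dvd_iff_isRoot.mp ((dvd_pow_self _ he0.ne').trans hΦ)
  rw [eval_add, eval_mul, eval_mul, hΦ0, mul_zero, zero_add, mul_eq_zero, expand_eval] at h
  obtain ⟨q, rfl⟩ := dvd_iff_isRoot.mpr (h.resolve_right hΨ : b.IsRoot (P ^ p))
  refine dvd_add (dvd_mul_of_dvd_right hΦ _) (dvd_mul_of_dvd_left ?_ _)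
  rw [map_mul, map_sub, expand_X, expand_C, map_pow C, ← sub_pow_char]
  exact dvd_mul_of_dvd_left (pow_dvd_pow _ he) _

theorem finrank_le_card_natDegree {N : Submodule K K[X]} (S : Finset ℕ)
    (hS : ∀ s ∈ N, s ≠ 0 → s.natDegree ∈ S) : Module.finrank K N ≤ S.card := by
  let f : N →ₗ[K] (S → K) := (LinearMap.pi fun i : S => lcoeff K i).comp N.subtype
  refine (LinearMap.finrank_le_finrank_of_injective (f := f) ?_).trans (by simp)
  rw [← LinearMap.ker_eq_bot, LinearMap.ker_eq_bot']
  intro s hs
  by_contra hne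
  have hne' : (s : K[X]) ≠ 0 := fun h => hne (Subtype.ext h)
  exact leadingCoeff_ne_zero.mpr hne' (congrFun hs ⟨_, hS _ s.2 hne'⟩)

end field

section dvr
variable {A : Type u} [CommRing A] [IsDomain A] [IsDiscreteValuationRing A]
  {K : Type u} [Field K] [Algebra A K] [IsFractionRing A K] (p : ℕ)

local notation "κ" => IsLocalRing.ResidueField A
local notation "red" => Polynomial.map (IsLocalRing.residue A)
local notation "ι" => Polynomial.map (algebraMap A K)

/-- The reduction of the saturation of `A[X^p]F + A[X^p]G`. -/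
noncomputable def limSpace (F G : A[X]) : Submodule κ κ[X] where
  carrier := {u | ∃ (Q : A[X]) (a b : K[X]), red Q = u ∧ ι Q = expand K p a * ι F + expand K p b * ι G}
  zero_mem' := ⟨0, 0, 0, by simp, by simp⟩
  add_mem' := by
    rintro _ _ ⟨Q, a, b, rfl, hQ⟩ ⟨Q', a', b', rfl, hQ'⟩
    exact ⟨Q + Q', a + a', b + b', by rw [Polynomial.map_add],
      by rw [Polynomial.map_add, hQ, hQ', map_add, map_add]; ring⟩
  smul_mem' := by
    rintro c _ ⟨Q, a, b, rfl, hQ⟩
    obtain ⟨c, rfl⟩ := IsLocalRing.residue_surjective c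
    refine ⟨C c * Q, C (algebraMap A K c) * a, C (algebraMap A K c) * b, ?_, ?_⟩
    · rw [Polynomial.map_mul, map_C, smul_eq_C_mul]
    · rw [Polynomial.map_mul, map_C, hQ, map_mul, map_mul, expand_C]; ring

variable {p} {F G : A[X]}

theorem left_mem : red F ∈ limSpace (K := K) p F G := ⟨F, 1, 0, rfl, by simp⟩

theorem right_mem : red G ∈ limSpace (K := K) p F G := ⟨G, 0, 1, rfl, by simp⟩

theorem wronskian_mem [CharP A p] {Wp : A[X]} (hWp : Wp.Monic) {c : K}
    (hW : wronskian (ι F) (ι G) = C c * ι Wp) {u v : κ[X]} (hu : u ∈ limSpace (K := K) p F G)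
    (hv : v ∈ limSpace (K := K) p F G) :
    ∃ r : κ[X], derivative r = 0 ∧ wronskian u v = r * red Wp := by
  haveI : CharP K p := charP_of_injective_ringHom (IsFractionRing.injective A K) p
  obtain ⟨Q, a, b, rfl, hQ⟩ := hu
  obtain ⟨Q', a', b', rfl, hQ'⟩ := hv
  have h1 : ι (wronskian Q Q') = expand K p (C c * (a * b' - b * a')) * ι Wp := by
    rw [map_wronskian, hQ, hQ', wronskian_comb _ _ _ _ _ _ (derivative_expand_eq_zero p a)
      (derivative_expand_eq_zero p b) (derivative_expand_eq_zero p a') (derivative_expand_eq_zero p b'), hW,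
      map_mul, map_sub, map_mul, map_mul, expand_C]
    ring
  obtain ⟨r, hr⟩ := (map_dvd_map (algebraMap A K) (IsFractionRing.injective A K) hWp).mp (Dvd.intro_left _ h1.symm)
  have hr0 : derivative r = 0 := by
    have h2 : ι r = expand K p (C c * (a * b' - b * a')) := by
      rw [hr, Polynomial.map_mul, mul_comm] at h1
      exact mul_right_cancel₀ (hWp.map _).ne_zero h1
    refine Polynomial.map_injective _ (IsFractionRing.injective A K) ?_
    rw [← derivative_map, h2, derivative_expand_eq_zero, Polynomial.map_zero]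
  exact ⟨red r, by rw [derivative_map, hr0, Polynomial.map_zero],
    by rw [← map_wronskian, hr, Polynomial.map_mul, mul_comm]⟩

theorem card_le_finrank [CharP A p] [Fact p.Prime] (hW : wronskian (ι F) (ι G) ≠ 0) {d : ℕ}
    (hF : F.natDegree ≤ d) (hG : G.natDegree ≤ d) (j : ℕ) :
    2 * (j + 1) ≤ Module.finrank κ (limSpace (K := K) p F G ⊓ degreeLE κ ((d + j * p : ℕ) : WithBot ℕ) :
      Submodule κ κ[X]) := by
  classical
  have hp := (Fact.out : p.Prime)
  haveI : CharP K p := charP_of_injective_ringHom (IsFractionRing.injective A K) p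
  obtain ⟨π, hπ⟩ := IsDiscreteValuationRing.exists_irreducible A
  set D := d + j * p with hD
  let L : Submodule A A[X] := degreeLE A (D : WithBot ℕ) ⊓
    { carrier := {Q | ∃ a b : K[X], ι Q = expand K p a * ι F + expand K p b * ι G}
      zero_mem' := ⟨0, 0, by simp⟩
      add_mem' := by
        rintro Q Q' ⟨a, b, hQ⟩ ⟨a', b', hQ'⟩
        exact ⟨a + a', b + b', by rw [Polynomial.map_add, hQ, hQ', map_add, map_add]; ring⟩
      smul_mem' := by
        rintro c Q ⟨a, b, hQ⟩
        exact ⟨C (algebraMap A K c) * a, C (algebraMap A K c) * b, by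
          rw [Polynomial.smul_eq_C_mul, Polynomial.map_mul, map_C, hQ, map_mul, map_mul, expand_C]; ring⟩ }
  haveI hfin : Module.Finite A (degreeLE A (D : WithBot ℕ)) := by
    rw [degreeLE_eq_span_X_pow]
    exact Module.Finite.span_of_finite A (Finset.finite_toSet _)
  haveI : IsNoetherian A (degreeLE A (D : WithBot ℕ)) := isNoetherian_of_isNoetherianRing_of_finite A _
  haveI hLfin : Module.Finite A L :=
    Module.Finite.of_injective (Submodule.inclusion (inf_le_left : L ≤ degreeLE A (D : WithBot ℕ))) (Submodule.inclusion_injective _)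
  haveI : Module.Free A L := Module.free_of_finite_type_torsion_free'
  let bL := Module.Free.chooseBasis A L
  -- rank of `L`
  have hrank : 2 * (j + 1) ≤ Module.finrank A L := by
    have hdeg : ∀ (q : degreeLT A (j + 1)) (H : A[X]), H.natDegree ≤ d → expand A p (q : A[X]) * H ∈ degreeLE A (D : WithBot ℕ) := by
      intro q H hH
      rw [mem_degreeLE, ← natDegree_le_iff_degree_le]
      refine natDegree_mul_le.trans ?_
      rw [natDegree_expand, hD, add_comm d]
      refine add_le_add (Nat.mul_le_mul_right p ?_) hH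
      have hq := mem_degreeLT.mp q.2
      by_cases h0 : (q : A[X]) = 0
      · simp [h0]
      · rw [← natDegree_lt_iff_degree_lt h0] at hq; omega
    have hmem : ∀ q : degreeLT A (j + 1) × degreeLT A (j + 1),
        expand A p (q.1 : A[X]) * F + expand A p (q.2 : A[X]) * G ∈ L := fun q =>
      ⟨add_mem (hdeg q.1 F hF) (hdeg q.2 G hG), ι (q.1 : A[X]), ι (q.2 : A[X]), by
        rw [Polynomial.map_add, Polynomial.map_mul, Polynomial.map_mul, map_expand, map_expand]⟩
    let Φ : (degreeLT A (j + 1) × degreeLT A (j + 1)) →ₗ[A] L :=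
      { toFun := fun q => ⟨_, hmem q⟩
        map_add' := fun q q' => Subtype.ext (by
          simp only [Prod.fst_add, Prod.snd_add, Submodule.coe_add, map_add]; ring)
        map_smul' := fun c q => Subtype.ext (by
          simp only [Prod.smul_fst, Prod.smul_snd, RingHom.id_apply, Submodule.coe_smul, map_smul, smul_mul_assoc, smul_add]) }
    have hinj : Function.Injective Φ := by
      rw [← LinearMap.ker_eq_bot, LinearMap.ker_eq_bot']
      rintro ⟨q, q'⟩ hq
      have h0 : expand K p (ι (q : A[X])) * ι F + expand K p (ι (q' : A[X])) * ι G = 0 := by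
        rw [← map_expand, ← map_expand, ← Polynomial.map_mul, ← Polynomial.map_mul, ← Polynomial.map_add,
          show expand A p (q : A[X]) * F + expand A p (q' : A[X]) * G = 0 from congrArg Subtype.val hq, Polynomial.map_zero]
      have h1 := wronskian_comb (ι F) (ι G) (expand K p (ι (q : A[X]))) (expand K p (ι (q' : A[X]))) 0 1
        (derivative_expand_eq_zero p _) (derivative_expand_eq_zero p _) derivative_zero derivative_one
      have h2 := wronskian_comb (ι F) (ι G) (expand K p (ι (q : A[X]))) (expand K p (ι (q' : A[X]))) 1 0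
        (derivative_expand_eq_zero p _) (derivative_expand_eq_zero p _) derivative_one derivative_zero
      rw [h0, wronskian_zero_left] at h1 h2
      replace h1 := h1.symm
      replace h2 := h2.symm
      simp only [mul_zero, mul_one, sub_zero, zero_sub, neg_mul, neg_eq_zero, mul_eq_zero, or_iff_left hW,
        expand_eq_zero hp.pos, Polynomial.map_eq_zero_iff (IsFractionRing.injective A K)] at h1 h2
      exact Prod.ext (Subtype.ext h1) (Subtype.ext h2)
    have h := LinearMap.finrank_le_finrank_of_injective hinj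
    rw [Module.finrank_prod, LinearEquiv.finrank_eq (degreeLTEquiv A (j + 1)), Module.finrank_fin_fun] at h
    omega
  -- the reductions of a basis of `L` are independent
  have hred : ∀ i, red (bL i : A[X]) ∈ limSpace (K := K) p F G ⊓ degreeLE κ (D : WithBot ℕ) := fun i => by
    obtain ⟨a, b, h⟩ := (bL i).2.2
    exact ⟨⟨_, a, b, rfl, h⟩, mem_degreeLE.mpr (degree_map_le.trans (mem_degreeLE.mp (bL i).2.1))⟩
  have hli : LinearIndependent κ fun i => (⟨_, hred i⟩ :
      (limSpace (K := K) p F G ⊓ degreeLE κ (D : WithBot ℕ) : Submodule κ κ[X])) := by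
    rw [Fintype.linearIndependent_iff]
    intro c hc i
    choose c' hc' using fun i => IsLocalRing.residue_surjective (c i)
    let Q : L := ∑ i, c' i • bL i
    have hQ : red (Q : A[X]) = 0 := by
      have hc0 := congrArg Subtype.val hc
      simp only [AddSubmonoidClass.coe_finsetSum, Submodule.coe_smul, ZeroMemClass.coe_zero] at hc0
      simp only [Q, AddSubmonoidClass.coe_finsetSum, Submodule.coe_smul, Polynomial.map_sum, Polynomial.smul_eq_C_mul,
        Polynomial.map_mul, map_C, hc'] at hc0 ⊢
      exact hc0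
    have hdvd : C π ∣ (Q : A[X]) := by
      rw [C_dvd_iff_dvd_coeff]
      intro n
      rw [← Ideal.mem_span_singleton, ← hπ.maximalIdeal_eq, ← IsLocalRing.residue_eq_zero_iff, ← coeff_map, hQ, coeff_zero]
    obtain ⟨Q', hQ'⟩ := hdvd
    have hπK : algebraMap A K π ≠ 0 := (map_ne_zero_iff _ (IsFractionRing.injective A K)).mpr hπ.ne_zero
    have hQ'L : Q' ∈ L := by
      obtain ⟨a, b, h⟩ := Q.2.2
      refine ⟨?_, C (algebraMap A K π)⁻¹ * a, C (algebraMap A K π)⁻¹ * b, ?_⟩
      · have h2 := mem_degreeLE.mp Q.2.1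
        rw [hQ', degree_C_mul hπ.ne_zero] at h2
        exact mem_degreeLE.mpr h2
      · rw [hQ', Polynomial.map_mul, map_C] at h
        rw [map_mul, map_mul, expand_C, mul_assoc, mul_assoc, ← mul_add, ← h, ← mul_assoc, ← map_mul,
          inv_mul_cancel₀ hπK, map_one, one_mul]
    have heq : Q = π • (⟨Q', hQ'L⟩ : L) := Subtype.ext (by
      rw [Submodule.coe_smul, smul_eq_C_mul]; exact hQ')
    have h2 := congrArg (fun z => bL.repr z i) heq
    simp only [Q, map_sum, map_smul, Finsupp.finsetSum_apply, Module.Basis.repr_self, Finsupp.smul_single,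
      smul_eq_mul, mul_one, Finsupp.single_apply, Finset.sum_ite_eq', Finset.mem_univ, if_true, Finsupp.smul_apply] at h2
    rw [← hc' i, h2, map_mul, IsLocalRing.residue_eq_zero_iff π |>.mpr (hπ.maximalIdeal_eq ▸ Ideal.mem_span_singleton_self π), zero_mul]
  haveI : Module.Finite κ (degreeLE κ (D : WithBot ℕ)) := by
    rw [degreeLE_eq_span_X_pow]
    exact Module.Finite.span_of_finite κ (Finset.finite_toSet _)
  haveI := Submodule.finiteDimensional_of_le (inf_le_right : limSpace (K := K) p F G ⊓ degreeLE κ (D : WithBot ℕ) ≤ _)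
  refine hrank.trans ?_
  rw [Module.finrank_eq_card_basis bL]
  exact hli.fintype_card_le_finrank

theorem exists_comb_pow_dvd [CharP A p] [Fact p.Prime] {e : ℕ} (he : e ≤ p) (he0 : 0 < e) {P : A}
    (hnv : (ι F).eval (algebraMap A K P) ≠ 0 ∨ (ι G).eval (algebraMap A K P) ≠ 0)
    {α β : K} (hαβ : C α * ι F + C β * ι G ≠ 0)
    (hdvd : (X - C (algebraMap A K P)) ^ e ∣ C α * ι F + C β * ι G)
    {u v : κ[X]} (hu : u ∈ limSpace (K := K) p F G) (hv : v ∈ limSpace (K := K) p F G) :
    ∃ a b : κ, (a ≠ 0 ∨ b ≠ 0) ∧ (X - C (IsLocalRing.residue A P)) ^ e ∣ C a * u + C b * v := by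
  haveI : CharP K p := charP_of_injective_ringHom (IsFractionRing.injective A K) p
  obtain ⟨Q, a₁, b₁, rfl, hQ⟩ := hu
  obtain ⟨Q', a₂, b₂, rfl, hQ'⟩ := hv
  obtain ⟨x, y, hxy, h0⟩ : ∃ x y : A, (IsLocalRing.residue A x ≠ 0 ∨ IsLocalRing.residue A y ≠ 0) ∧
      x * Q.eval P + y * Q'.eval P = 0 := by
    rcases ValuationRing.dvd_total (Q.eval P) (Q'.eval P) with ⟨w, hw⟩ | ⟨w, hw⟩
    · exact ⟨-w, 1, Or.inr (by simp), by rw [hw]; ring⟩
    · exact ⟨1, -w, Or.inl (by simp), by rw [hw]; ring⟩
  refine ⟨_, _, hxy, ?_⟩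
  have hY : (X - C P) ^ e ∣ C x * Q + C y * Q' := by
    rw [← map_dvd_map (algebraMap A K) (IsFractionRing.injective A K) ((monic_X_sub_C P).pow e),
      Polynomial.map_pow, Polynomial.map_sub, map_X, map_C]
    let a := C (algebraMap A K x) * a₁ + C (algebraMap A K y) * a₂
    let b := C (algebraMap A K x) * b₁ + C (algebraMap A K y) * b₂
    have hY : ι (C x * Q + C y * Q') = expand K p a * ι F + expand K p b * ι G := by
      simp only [a, b, Polynomial.map_add, Polynomial.map_mul, map_C, hQ, hQ', map_add, map_mul, expand_C]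
      ring
    have hev : (ι (C x * Q + C y * Q')).eval (algebraMap A K P) = 0 := by
      rw [eval_map_apply, eval_add, eval_mul, eval_mul, eval_C, eval_C, h0, map_zero]
    rw [hY] at hev ⊢
    set Φ := C α * ι F + C β * ι G with hΦ
    by_cases hα : α = 0
    · have hβ : β ≠ 0 := fun h => hαβ (by simp [hα, h, hΦ])
      have hG : ι G = C β⁻¹ * Φ := by
        rw [hΦ, hα, map_zero, zero_mul, zero_add, ← mul_assoc, ← map_mul, inv_mul_cancel₀ hβ, map_one, one_mul]
      have hG0 : (ι G).eval (algebraMap A K P) = 0 := by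
        rw [hG, eval_mul, dvd_iff_isRoot.mp ((dvd_pow_self _ he0.ne').trans hdvd), mul_zero]
      have heq : expand K p a * ι F + expand K p b * ι G = expand K p (C β⁻¹ * b) * Φ + expand K p a * ι F := by
        rw [hG, map_mul, expand_C]; ring
      rw [heq] at hev ⊢
      exact pow_dvd_of_eval_eq_zero p he hdvd he0 (hnv.resolve_right fun h => h hG0) hev
    · have hF : ι F = C α⁻¹ * (Φ - C β * ι G) := by
        rw [hΦ, add_sub_cancel_right, ← mul_assoc, ← map_mul, inv_mul_cancel₀ hα, map_one, one_mul]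
      have hΨ : (ι G).eval (algebraMap A K P) ≠ 0 := fun h => by
        refine (hnv.resolve_right fun h' => h' h) ?_
        rw [hF, eval_mul, eval_sub, eval_mul, h, dvd_iff_isRoot.mp ((dvd_pow_self _ he0.ne').trans hdvd)]
        ring
      have heq : expand K p a * ι F + expand K p b * ι G =
          expand K p (C α⁻¹ * a) * Φ + expand K p (b - C α⁻¹ * C β * a) * ι G := by
        rw [hF, map_sub, map_mul, map_mul, map_mul, expand_C, expand_C]; ring
      rw [heq] at hev ⊢
      exact pow_dvd_of_eval_eq_zero p he hdvd he0 hΨ hev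
  have h := Polynomial.map_dvd (IsLocalRing.residue A) hY
  simpa using h

end dvr

end Groth.Agent.PencilLim
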