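import Groth.Agent.PencilLim.Basic
import Groth.Prelude.Def_W4c1limliniiiiRamP1

/-!
# Inseparable limits of pencils
-/

set_option autoImplicit false

universe u

namespace Groth.Agent.PencilLim

open Polynomial W4c1limliniiii

variable {A : Type u} [CommRing A] [IsDomain A] [IsDiscreteValuationRing A] (p : ℕ) [Fact p.Prime] [CharP A p]
  {K : Type u} [Field K] [Algebra A K] [IsFractionRing A K] {d n : ℕ} {e : Fin n → ℕ} {P : Fin n → A} {F G : A[X]}

local notation "κ" => IsLocalRing.ResidueField A
local notation "red" => Polynomial.map (IsLocalRing.residue A)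
local notation "ι" => Polynomial.map (algebraMap A K)

theorem natDegree_eq_mul {R : Type*} [CommRing R] [IsDomain R] [CharP R p] {r : R[X]} (hr : derivative r = 0) :
    ∃ t, r.natDegree = t * p :=
  ⟨(contract p r).natDegree, by
    conv_lhs => rw [← expand_contract p hr (Fact.out : p.Prime).ne_zero, natDegree_expand]⟩

theorem charP_residueField : CharP κ p :=
  (CharP.charP_iff_prime_eq_zero (Fact.out : p.Prime)).mpr (by
    rw [← map_natCast (IsLocalRing.residue A), CharP.cast_eq_zero, map_zero])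

theorem exists_special_pencil (he : Admissible p d e) (hlt : ∀ i, e i < p)
    (hF : F.natDegree ≤ d) (hG : G.natDegree ≤ d) (hind : LinearIndependent κ ![red F, red G])
    (hgen : Submodule.span K {ι F, ι G} ∈ ramMaps d (fun i => algebraMap A K (P i)) e)
    (hinsep : ¬ W4c1limliniiii.IsSeparable (Submodule.span κ {red F, red G}))
    (hdist : Function.Injective (fun i => IsLocalRing.residue A (P i))) :
    ∃ m ε : ℕ, 1 ≤ m ∧ m * p ≤ d ∧ ε ≤ 1 ∧
      ∃ V ∈ ramMaps (d + m * p - 1 + ε) (fun i => IsLocalRing.residue A (P i)) e,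
        HasRamIdxInf (d + m * p - 1 + ε) V (2 * m * p - 1 + 2 * ε) := by
  classical
  have hp := (Fact.out : p.Prime)
  have hinjK := IsFractionRing.injective A K
  haveI : CharP K p := charP_of_injective_ringHom hinjK p
  haveI : CharP κ p := charP_residueField p
  obtain ⟨⟨-, -, -, hnv⟩, ⟨s₀, hs₀, t₀, ht₀, hst₀⟩, hram⟩ := hgen
  rw [Submodule.mem_span_pair] at hs₀ ht₀
  obtain ⟨a₀, b₀, rfl⟩ := hs₀
  obtain ⟨a₁, b₁, rfl⟩ := ht₀
  have hWK : wronskian (ι F) (ι G) ≠ 0 := fun h => hst₀ (by
    rw [smul_eq_C_mul, smul_eq_C_mul, smul_eq_C_mul, smul_eq_C_mul,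
      wronskian_comb _ _ _ _ _ _ derivative_C derivative_C derivative_C derivative_C, h, mul_zero])
  -- the Wronskian of the generic pencil
  let Wp : A[X] := ∏ i, (X - C (P i)) ^ (e i - 1)
  have hWp : Wp.Monic := monic_prod_of_monic _ _ fun i _ => (monic_X_sub_C _).pow _
  have hdegWp : Wp.natDegree = 2 * d - 2 := by
    rw [natDegree_prod_of_monic _ _ fun i _ => (monic_X_sub_C _).pow _]
    simp only [natDegree_pow, natDegree_X_sub_C, mul_one]
    have h1 : ∑ i, (e i - 1) + ∑ _i : Fin n, 1 = ∑ i, e i := by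
      rw [← Finset.sum_add_distrib]
      exact Finset.sum_congr rfl fun i _ => Nat.sub_add_cancel (by have := (he.1 i).1; omega)
    have h2 := he.2
    simp only [Finset.sum_const, Finset.card_univ, Fintype.card_fin, smul_eq_mul, mul_one] at h1
    omega
  have hPK : Function.Injective fun i => algebraMap A K (P i) := fun i j h =>
    hdist (congrArg (IsLocalRing.residue A) (hinjK h))
  have hgen_comb : ∀ i, ∃ α β : K, C α * ι F + C β * ι G ≠ 0 ∧
      (X - C (algebraMap A K (P i))) ^ e i ∣ C α * ι F + C β * ι G := fun i => by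
    obtain ⟨s, hs, hs0, hse⟩ := (hram i).1
    obtain ⟨α, β, rfl⟩ := Submodule.mem_span_pair.mp hs
    rw [smul_eq_C_mul, smul_eq_C_mul] at hs0 hse
    exact ⟨α, β, hs0, (le_rootMultiplicity_iff hs0).mp hse⟩
  have hdvd : ι Wp ∣ wronskian (ι F) (ι G) := by
    simp only [Wp, Polynomial.map_prod, Polynomial.map_pow, Polynomial.map_sub, map_X, map_C]
    refine Finset.prod_dvd_of_coprime (fun i _ j _ hij => ((pairwise_coprime_X_sub_C hPK) hij).pow) fun i _ => ?_
    obtain ⟨α, β, h0, hd⟩ := hgen_comb i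
    by_cases hα : α = 0
    · have hβ : β ≠ 0 := fun h => h0 (by simp [hα, h])
      have h := pow_dvd_wronskian_pred hd (C 1 * ι F + C 0 * ι G)
      rw [wronskian_comb _ _ _ _ _ _ derivative_C derivative_C derivative_C derivative_C, hα] at h
      simp only [map_zero, zero_mul, map_one, mul_one, zero_sub] at h
      exact ((isUnit_C.mpr (Ne.isUnit hβ)).neg.dvd_mul_left).mp h
    · have h := pow_dvd_wronskian_pred hd (C 0 * ι F + C 1 * ι G)
      rw [wronskian_comb _ _ _ _ _ _ derivative_C derivative_C derivative_C derivative_C] at h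
      simp only [map_zero, mul_zero, map_one, mul_one, sub_zero] at h
      exact ((isUnit_C.mpr (Ne.isUnit hα)).dvd_mul_left).mp h
  obtain ⟨r₀, hr₀⟩ := hdvd
  obtain ⟨c, hc⟩ : ∃ c : K, wronskian (ι F) (ι G) = C c * ι Wp := by
    refine ⟨r₀.coeff 0, ?_⟩
    have hle := natDegree_wronskian_le_of_le (natDegree_map_le.trans hF : (ι F).natDegree ≤ d)
      (natDegree_map_le.trans hG : (ι G).natDegree ≤ d)
    rw [hr₀] at hWK hle ⊢
    rw [natDegree_mul (hWp.map _).ne_zero (right_ne_zero_of_mul hWK), hWp.natDegree_map, hdegWp] at hle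
    conv_lhs => rw [eq_C_of_natDegree_eq_zero (show r₀.natDegree = 0 by omega)]
    exact mul_comm _ _
  -- the element of least degree
  let M := limSpace (K := K) p F G
  have hFM : red F ∈ M := left_mem
  have hGM : red G ∈ M := right_mem
  have hspan : Submodule.span κ {red F, red G} ≤ M := Submodule.span_le.mpr (by
    rintro _ (rfl | rfl)
    exacts [hFM, hGM])
  have hF0 : red F ≠ 0 := by simpa using hind.ne_zero 0
  have hG0 : red G ≠ 0 := by simpa using hind.ne_zero 1
  have hex : ∃ m, ∃ s ∈ M, s ≠ 0 ∧ s.natDegree = m := ⟨_, _, hFM, hF0, rfl⟩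
  obtain ⟨du, ⟨u, huM, hu0, hu⟩, humin⟩ : ∃ du, (∃ s ∈ M, s ≠ 0 ∧ s.natDegree = du) ∧
      ∀ s ∈ M, s ≠ 0 → du ≤ s.natDegree :=
    ⟨Nat.find hex, Nat.find_spec hex, fun s hs hs0 => Nat.find_min' hex ⟨s, hs, hs0, rfl⟩⟩
  have hduD : du + p ≤ d := by
    obtain ⟨s, hs, t, ht, hs0, ht0, hlt', htd⟩ : ∃ s ∈ Submodule.span κ {red F, red G},
        ∃ t ∈ Submodule.span κ {red F, red G}, s ≠ 0 ∧ t ≠ 0 ∧ s.natDegree < t.natDegree ∧ t.natDegree ≤ d := by
      have hm1 : red F ∈ Submodule.span κ {red F, red G} := Submodule.subset_span (Set.mem_insert _ _)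
      have hm2 : red G ∈ Submodule.span κ {red F, red G} := Submodule.subset_span (Set.mem_insert_of_mem _ rfl)
      rcases lt_trichotomy (red F).natDegree (red G).natDegree with h | h | h
      · exact ⟨_, hm1, _, hm2, hF0, hG0, h, natDegree_map_le.trans hG⟩
      · have hz0 : (red F).leadingCoeff • red G - (red G).leadingCoeff • red F ≠ 0 := fun h0 => by
          have h1 := (LinearIndependent.pair_iff.mp hind (-(red G).leadingCoeff) (red F).leadingCoeff (by
            rw [neg_smul, ← h0]; abel)).2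
          exact leadingCoeff_ne_zero.mpr hF0 h1
        refine ⟨_, Submodule.sub_mem _ (Submodule.smul_mem _ _ hm2) (Submodule.smul_mem _ _ hm1), _, hm1, hz0, hF0, ?_, natDegree_map_le.trans hF⟩
        refine lt_of_le_of_ne ((natDegree_sub_le _ _).trans (max_le ((natDegree_smul_le _ _).trans h.ge) (natDegree_smul_le _ _))) fun heq => ?_
        refine leadingCoeff_ne_zero.mpr hz0 ?_
        rw [leadingCoeff, heq, coeff_sub, coeff_smul, coeff_smul, smul_eq_mul, smul_eq_mul]
        nth_rewrite 1 [h]
        rw [coeff_natDegree, coeff_natDegree]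
        ring
      · exact ⟨_, hm2, _, hm1, hG0, hF0, h, natDegree_map_le.trans hF⟩
    have hW0 : wronskian s t = 0 := by_contra fun h => hinsep ⟨s, hs, t, ht, h⟩
    have h1 := coeff_wronskian_top (le_refl s.natDegree) (le_refl t.natDegree)
    rw [hW0, coeff_zero, coeff_natDegree, coeff_natDegree, ← Nat.cast_sub hlt'.le, eq_comm, mul_eq_zero, or_iff_left (mul_ne_zero
      (leadingCoeff_ne_zero.mpr hs0) (leadingCoeff_ne_zero.mpr ht0)), CharP.cast_eq_zero_iff κ p] at h1
    have := Nat.le_of_dvd (by omega) h1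
    have := humin s (hspan hs) hs0
    omega
  -- degrees of the limit space
  have hp2 := hp.two_le
  have hclass : ∀ s ∈ M, s ≠ 0 → (∃ i, s.natDegree = du + i * p) ∨ ∃ i, s.natDegree = (2 * d - 1 - du) + i * p := by
    intro s hs hs0
    have hle := humin s hs hs0
    by_cases hdvd : p ∣ s.natDegree - du
    · obtain ⟨i, hi⟩ := hdvd
      exact Or.inl ⟨i, by rw [mul_comm i p]; omega⟩
    · right
      have hne : (wronskian u s).coeff (du + s.natDegree - 1) ≠ 0 := by
        rw [coeff_wronskian_top hu.le le_rfl, ← Nat.cast_sub hle]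
        refine mul_ne_zero (fun h => hdvd ((CharP.cast_eq_zero_iff κ p _).mp h)) (mul_ne_zero ?_ (leadingCoeff_ne_zero.mpr hs0))
        rw [← hu]; exact leadingCoeff_ne_zero.mpr hu0
      have hdeg := natDegree_eq_of_le_of_coeff_ne_zero (natDegree_wronskian_le hu.le le_rfl) hne
      obtain ⟨r, hr, hW⟩ := wronskian_mem hWp hc huM hs
      have hr0 : r ≠ 0 := fun h => hne (by rw [hW, h, zero_mul, coeff_zero])
      obtain ⟨t, ht⟩ := natDegree_eq_mul p hr
      rw [hW, natDegree_mul hr0 (hWp.map _).ne_zero, hWp.natDegree_map, hdegWp, ht] at hdeg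
      refine ⟨t, ?_⟩
      have : du < s.natDegree := lt_of_le_of_ne hle fun h => hdvd (by simp [h])
      have := hp.two_le
      omega
  obtain ⟨x, hx⟩ : ∃ x, d = du + x := ⟨d - du, by omega⟩
  set q := x / p with hq
  set r := x % p with hrdef
  have hxqr : x = q * p + r := by rw [hq, hrdef, mul_comm]; exact (Nat.div_add_mod x p).symm
  have hrp : r < p := Nat.mod_lt _ hp.pos
  have hq1 : 1 ≤ q := by rw [hq, Nat.one_le_div_iff hp.pos]; omega
  have hqd : q ≤ d := by
    have := Nat.le_mul_of_pos_right q hp.pos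
    omega
  set y := 2 * d - 1 - du with hy
  set D := d + d * p with hD
  have hDu : (D - du) / p = q + d := by
    rw [show D - du = x + d * p by omega, Nat.add_mul_div_right _ _ hp.pos]
  have hDy : D - y = d * p + 1 - x := by omega
  have hcount : ∀ S : Finset ℕ, (∀ s ∈ M, s ≠ 0 → s.natDegree ≤ D → s.natDegree ∈ S) → 2 * (d + 1) ≤ S.card :=
    fun S hS => (card_le_finrank hWK hF hG d).trans (finrank_le_card_natDegree S fun s hs hs0 =>
      hS s hs.1 hs0 (natDegree_le_iff_degree_le.mpr (mem_degreeLE.mp hs.2)))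
  have hxd : x ≤ d := by omega
  have hdp : d ≤ d * p := Nat.le_mul_of_pos_right d hp.pos
  have hr1 : r ≤ 1 := by
    have h := hcount ((Finset.range (q + d + 1)).image (fun i => du + i * p) ∪
        (Finset.range ((D - y) / p + 1)).image (fun i => y + i * p)) fun s hs hs0 hsD => by
      rcases hclass s hs hs0 with ⟨i, hi⟩ | ⟨i, hi⟩
      · refine Finset.mem_union_left _ (Finset.mem_image.mpr ⟨i, Finset.mem_range.mpr ?_, hi.symm⟩)
        have : i ≤ (D - du) / p := (Nat.le_div_iff_mul_le hp.pos).mpr (by omega)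
        omega
      · refine Finset.mem_union_right _ (Finset.mem_image.mpr ⟨i, Finset.mem_range.mpr ?_, hi.symm⟩)
        have : i ≤ (D - y) / p := (Nat.le_div_iff_mul_le hp.pos).mpr (by omega)
        omega
    have h2 := h.trans (Finset.card_union_le _ _ |>.trans (add_le_add Finset.card_image_le Finset.card_image_le))
    rw [Finset.card_range, Finset.card_range] at h2
    have h3 : (d - q) * p ≤ D - y := (Nat.le_div_iff_mul_le hp.pos).mp (by omega)
    rw [Nat.sub_mul] at h3
    have := Nat.mul_le_mul_right p hqd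
    omega
  obtain ⟨h, hhM, hh0, hh⟩ : ∃ h ∈ M, h ≠ 0 ∧ h.natDegree = y := by
    by_contra hcon
    push Not at hcon
    have h := hcount ((Finset.range (q + d + 1)).image (fun i => du + i * p) ∪
        (Finset.range ((D - y) / p)).image (fun i => y + (i + 1) * p)) fun s hs hs0 hsD => by
      rcases hclass s hs hs0 with ⟨i, hi⟩ | ⟨i, hi⟩
      · refine Finset.mem_union_left _ (Finset.mem_image.mpr ⟨i, Finset.mem_range.mpr ?_, hi.symm⟩)
        have : i ≤ (D - du) / p := (Nat.le_div_iff_mul_le hp.pos).mpr (by omega)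
        omega
      · obtain ⟨i, rfl⟩ : ∃ j, i = j + 1 := ⟨i - 1, by
          rcases i with _ | i
          · exact absurd (by simpa using hi) (hcon s hs hs0)
          · omega⟩
        refine Finset.mem_union_right _ (Finset.mem_image.mpr ⟨i, Finset.mem_range.mpr ?_, hi.symm⟩)
        have : i + 1 ≤ (D - y) / p := (Nat.le_div_iff_mul_le hp.pos).mpr (by omega)
        omega
    have h2 := h.trans (Finset.card_union_le _ _ |>.trans (add_le_add Finset.card_image_le Finset.card_image_le))
    rw [Finset.card_range, Finset.card_range] at h2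
    have h3 : (d + 1 - q) * p ≤ D - y := (Nat.le_div_iff_mul_le hp.pos).mp (by omega)
    rw [Nat.sub_mul, add_mul, one_mul] at h3
    have := Nat.mul_le_mul_right p hqd
    have := hp.two_le
    omega
  -- the Wronskian of the special pencil
  have hyu : ((y : κ) - du) ≠ 0 := by
    have h1 : ((y + 1 : ℕ) : κ) = ((du + (2 * q) * p + 2 * r : ℕ) : κ) := congrArg _ (by rw [mul_assoc]; omega)
    push_cast [CharP.cast_eq_zero κ p] at h1
    intro h2
    interval_cases r
    · simp only [Nat.cast_zero, mul_zero, add_zero] at h1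
      exact one_ne_zero (by linear_combination h1 - h2 : (1 : κ) = 0)
    · simp only [Nat.cast_one, mul_one, mul_zero, add_zero] at h1
      exact one_ne_zero (by linear_combination h2 - h1 : (1 : κ) = 0)
  have hne : (wronskian u h).coeff (du + y - 1) ≠ 0 := by
    rw [coeff_wronskian_top hu.le hh.le]
    refine mul_ne_zero hyu (mul_ne_zero ?_ ?_)
    · rw [← hu]; exact leadingCoeff_ne_zero.mpr hu0
    · rw [← hh]; exact leadingCoeff_ne_zero.mpr hh0
  have hW0 : wronskian u h ≠ 0 := fun h' => hne (by rw [h', coeff_zero])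
  obtain ⟨c', hc'0, hW⟩ : ∃ c' : κ, c' ≠ 0 ∧ wronskian u h = C c' * red Wp := by
    obtain ⟨r', -, hW⟩ := wronskian_mem hWp hc huM hhM
    have hr0 : r' ≠ 0 := fun h' => hW0 (by rw [hW, h', zero_mul])
    have hdeg := natDegree_eq_of_le_of_coeff_ne_zero (natDegree_wronskian_le hu.le hh.le) hne
    rw [hW, natDegree_mul hr0 (hWp.map _).ne_zero, hWp.natDegree_map, hdegWp] at hdeg
    have h0 := eq_C_of_natDegree_eq_zero (show r'.natDegree = 0 by omega)
    exact ⟨r'.coeff 0, fun h' => hr0 (by rw [h0, h', map_zero]), by rw [hW]; conv_lhs => rw [h0]⟩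
  have hred : red Wp = ∏ i, (X - C (IsLocalRing.residue A (P i))) ^ (e i - 1) := by
    simp only [Wp, Polynomial.map_prod, Polynomial.map_pow, Polynomial.map_sub, map_X, map_C]
  have hnot : ∀ i, ¬ (X - C (IsLocalRing.residue A (P i))) ^ e i ∣ wronskian u h := fun i hdiv => by
    rw [hW, (isUnit_C.mpr (Ne.isUnit hc'0)).dvd_mul_left, hred, ← Finset.mul_prod_erase _ _ (Finset.mem_univ i)] at hdiv
    nth_rewrite 1 [show e i = e i - 1 + 1 by have := (he.1 i).1; omega] at hdiv
    rw [pow_succ, mul_dvd_mul_iff_left (pow_ne_zero _ (X_sub_C_ne_zero _)), dvd_iff_isRoot, IsRoot, eval_prod,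
      Finset.prod_eq_zero_iff] at hdiv
    obtain ⟨j, hj, hj0⟩ := hdiv
    rw [eval_pow, eval_sub, eval_X, eval_C] at hj0
    exact (Finset.mem_erase.mp hj).1 (hdist (sub_eq_zero.mp (eq_zero_of_pow_eq_zero hj0)).symm)
  -- the special pencil
  have hyval : d + q * p - 1 + r = y := by omega
  refine ⟨q, r, hq1, by omega, hr1, Submodule.span κ {u, h}, ⟨⟨?_, ?_, ⟨h, Submodule.subset_span (Set.mem_insert_of_mem _ rfl), by omega⟩, ?_⟩, ?_, ?_⟩, ?_⟩
  · refine Submodule.span_le.mpr ?_
    rintro _ (rfl | rfl) <;> exact mem_degreeLE.mpr (natDegree_le_iff_degree_le.mp (by omega))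
  · have hli : LinearIndependent κ ![u, h] := LinearIndependent.pair_iff.mpr fun a b hab => by
      rw [smul_eq_C_mul, smul_eq_C_mul] at hab
      have h1 := wronskian_comb u h (C a) (C b) (C 0) (C 1) derivative_C derivative_C derivative_C derivative_C
      have h2 := wronskian_comb u h (C a) (C b) (C 1) (C 0) derivative_C derivative_C derivative_C derivative_C
      rw [hab, wronskian_zero_left] at h1 h2
      simp only [map_zero, map_one, mul_one, mul_zero, sub_zero, zero_sub, neg_mul, zero_eq_neg,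
        zero_eq_mul, mul_eq_zero, or_iff_left hW0, C_eq_zero] at h1 h2
      exact ⟨h1, h2⟩
    have hcard := finrank_span_eq_card hli
    rwa [Matrix.range_cons_cons_empty, Fintype.card_fin] at hcard
  · intro a
    by_contra hcon
    push Not at hcon
    have hu' : (X - C a) ∣ u := dvd_iff_isRoot.mpr (hcon u (Submodule.subset_span (Set.mem_insert _ _)))
    have hh' : (X - C a) ∣ h := dvd_iff_isRoot.mpr (hcon h (Submodule.subset_span (Set.mem_insert_of_mem _ rfl)))
    have hWa : (X - C a) ^ (0 + 1) ∣ wronskian u h := pow_dvd_wronskian (by rwa [pow_one]) hh'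
    rw [zero_add, pow_one, hW, hred, dvd_iff_isRoot, IsRoot, eval_mul, eval_C, mul_eq_zero, or_iff_right hc'0,
      eval_prod, Finset.prod_eq_zero_iff] at hWa
    obtain ⟨i, -, hi⟩ := hWa
    rw [eval_pow, eval_sub, eval_X, eval_C] at hi
    have ha := sub_eq_zero.mp (eq_zero_of_pow_eq_zero hi)
    subst ha
    obtain ⟨α, β, h0, hd⟩ := hgen_comb i
    have he1 : 1 ≤ e i := by have := (he.1 i).1; omega
    have hnv' : (ι F).eval (algebraMap A K (P i)) ≠ 0 ∨ (ι G).eval (algebraMap A K (P i)) ≠ 0 := by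
      obtain ⟨s, hs, hs0⟩ := hnv (algebraMap A K (P i))
      by_contra! hboth
      obtain ⟨a, b, rfl⟩ := Submodule.mem_span_pair.mp hs
      exact hs0 (by simp [hboth.1, hboth.2])
    obtain ⟨a, b, hab, hdiv⟩ := exists_comb_pow_dvd (hlt i).le he1 hnv' h0 hd huM hhM
    obtain ⟨e', he'⟩ : ∃ e', e i = e' + 1 := ⟨e i - 1, by omega⟩
    rw [he'] at hdiv
    apply hnot i
    rw [he']
    rcases hab with ha | hb
    · have hdiv' := pow_dvd_wronskian (b := C 0 * u + C 1 * h) hdiv (by simpa using hh')
      rw [wronskian_comb _ _ _ _ _ _ derivative_C derivative_C derivative_C derivative_C] at hdiv'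
      simp only [map_zero, map_one, mul_one, mul_zero, sub_zero] at hdiv'
      exact ((isUnit_C.mpr (Ne.isUnit ha)).dvd_mul_left).mp hdiv'
    · have hdiv' := pow_dvd_wronskian (b := C 1 * u + C 0 * h) hdiv (by simpa using hu')
      rw [wronskian_comb _ _ _ _ _ _ derivative_C derivative_C derivative_C derivative_C] at hdiv'
      simp only [map_zero, map_one, mul_one, mul_zero, zero_sub] at hdiv'
      exact ((isUnit_C.mpr (Ne.isUnit hb)).neg.dvd_mul_left).mp hdiv'
  · exact ⟨u, Submodule.subset_span (Set.mem_insert _ _), h, Submodule.subset_span (Set.mem_insert_of_mem _ rfl), hW0⟩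
  · intro i
    obtain ⟨α, β, h0, hd⟩ := hgen_comb i
    have he1 : 1 ≤ e i := by have := (he.1 i).1; omega
    have hnv' : (ι F).eval (algebraMap A K (P i)) ≠ 0 ∨ (ι G).eval (algebraMap A K (P i)) ≠ 0 := by
      obtain ⟨s, hs, hs0⟩ := hnv (algebraMap A K (P i))
      by_contra! hboth
      obtain ⟨a, b, rfl⟩ := Submodule.mem_span_pair.mp hs
      exact hs0 (by simp [hboth.1, hboth.2])
    refine ⟨?_, fun s hs hs0 => ?_⟩
    · obtain ⟨a, b, hab, hdiv⟩ := exists_comb_pow_dvd (hlt i).le he1 hnv' h0 hd huM hhM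
      have hne0 : C a * u + C b * h ≠ 0 := fun h' => by
        have h1 := wronskian_comb u h (C a) (C b) (C 0) (C 1) derivative_C derivative_C derivative_C derivative_C
        have h2 := wronskian_comb u h (C a) (C b) (C 1) (C 0) derivative_C derivative_C derivative_C derivative_C
        rw [h', wronskian_zero_left] at h1 h2
        simp only [map_zero, map_one, mul_one, mul_zero, sub_zero, zero_sub, neg_mul, zero_eq_neg,
          zero_eq_mul, mul_eq_zero, or_iff_left hW0, C_eq_zero] at h1 h2
        exact hab.elim (fun ha => ha h1) (fun hb => hb h2)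
      refine ⟨_, Submodule.mem_span_pair.mpr ⟨a, b, by rw [smul_eq_C_mul, smul_eq_C_mul]⟩, hne0, ?_⟩
      exact (le_rootMultiplicity_iff hne0).mpr hdiv
    · by_contra hcon
      push Not at hcon
      have hdiv := (le_rootMultiplicity_iff hs0).mp (hcon : e i + 1 ≤ _)
      obtain ⟨a, b, rfl⟩ := Submodule.mem_span_pair.mp hs
      rw [smul_eq_C_mul, smul_eq_C_mul] at hdiv hs0
      apply hnot i
      by_cases ha : a = 0
      · have hb : b ≠ 0 := fun hb => hs0 (by simp [ha, hb])
        have h' := pow_dvd_wronskian_pred hdiv (C 1 * u + C 0 * h)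
        rw [wronskian_comb _ _ _ _ _ _ derivative_C derivative_C derivative_C derivative_C, Nat.succ_sub_one] at h'
        simp only [map_zero, map_one, mul_one, mul_zero, zero_sub] at h'
        exact ((isUnit_C.mpr (Ne.isUnit hb)).neg.dvd_mul_left).mp h'
      · have h' := pow_dvd_wronskian_pred hdiv (C 0 * u + C 1 * h)
        rw [wronskian_comb _ _ _ _ _ _ derivative_C derivative_C derivative_C derivative_C, Nat.succ_sub_one] at h'
        simp only [map_zero, map_one, mul_one, mul_zero, sub_zero] at h'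
        exact ((isUnit_C.mpr (Ne.isUnit ha)).dvd_mul_left).mp h'
  · have hmul : 2 * q * p = 2 * (q * p) := mul_assoc 2 q p
    refine ⟨⟨u, Submodule.subset_span (Set.mem_insert _ _), hu0, by omega⟩, fun s hs hs0 => ?_⟩
    have hsM : s ∈ M := (Submodule.span_le (p := M)).mpr (by rintro _ (rfl | rfl) <;> assumption) hs
    have := humin s hsM hs0
    omega

end Groth.Agent.PencilLim
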